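import Groth.Agent.AgBC.DualBC

/-!
Representations of relative Picard functors change base (copy of `AVUniv.isRelPicK_bcDual` with small imports).
-/

set_option autoImplicit false
set_option backward.isDefEq.respectTransparency false
set_option backward.isDefEq.respectTransparency.types false
set_option linter.style.haveILetI false
set_option linter.unusedSectionVars false
set_option maxHeartbeats 2000000

universe u

open CategoryTheory MonoidalCategory CartesianMonoidalCategory MonObj GrpObj AlgebraicGeometry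
open Groth.Agent.W7Cube (pull pull_pull pull_cls)
open Groth.Agent.AgBC (dn dnHom xtMap_inv bcDual_fst eq_of_fst reassoc reassoc_ovrHom pullCl_inv_hom)

noncomputable section

namespace Groth.Agent.PicSmooth

attribute [local instance] W7Cube.law

section baseChange

variable {S S' : Scheme.{u}} (τ : S' ⟶ S) {X P : Over S} {φ : AgPol.DualMap X P}

theorem invCl_pull {Y Z : Scheme.{u}} (g : Y ⟶ Z) {c : PicF.Cl Z} (h : PicF.IsInvertibleCl c) :
    PicF.IsInvertibleCl (PicF.pullCl g c) := by
  obtain ⟨L, rfl, hL⟩ := h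
  exact ⟨_, rfl, PicLoc.isInvertible_pullback g hL⟩

/-- the relative Picard representation changes base -/
theorem isRelPicK_bcDual (h : AbDual.IsRelPicK Scheme.fppfPrecoverage X.hom P φ) :
    AbDual.IsRelPicK Scheme.fppfPrecoverage (Red.bc τ X).hom (Red.bc τ P) (AgPol.bcDual τ X P φ) where
  natural := fun U U' g c hc => by
    refine eq_of_fst τ ?_
    rw [bcDual_fst, Over.comp_left, Category.assoc, bcDual_fst, ← PicLoc.pullCl_comp, ← xtMap_inv,
      PicLoc.pullCl_comp, h.natural (dn τ U) (dn τ U') (dnHom τ g) _ (invCl_pull (Y := PicF.XT X.hom (dn τ U)) _ hc)]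
    rfl
  locallySurjective := fun U g => by
    let g' : dn τ U ⟶ P := Over.homMk (g.left ≫ Limits.pullback.fst P.hom τ) (by
      rw [Category.assoc, Limits.pullback.condition, ← Category.assoc]
      exact congrArg (· ≫ τ) (Over.w g))
    obtain ⟨R, hR, hRc⟩ := h.locallySurjective (dn τ U) g'
    refine ⟨R, hR, fun {V} v hv => ?_⟩
    obtain ⟨c, hc, hφ⟩ := hRc v hv
    refine ⟨PicF.pullCl (AgPol.bcXTIso τ X (AbDual.ovr U v)).hom (PicF.pullCl (PicF.XTmap X.hom (reassoc τ v)) c),
      invCl_pull (Z := PicF.XT X.hom (dn τ (AbDual.ovr U v))) _ (invCl_pull _ hc), eq_of_fst τ ?_⟩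
    rw [bcDual_fst, pullCl_inv_hom, h.natural _ _ _ c hc, hφ, ← Category.assoc, reassoc_ovrHom]
    simp [g']
  locallyInjective := fun U c c' hc hc' he => by
    have he' : φ (dn τ U) (PicF.pullCl (AgPol.bcXTIso τ X U).inv c) =
        φ (dn τ U) (PicF.pullCl (AgPol.bcXTIso τ X U).inv c') := by
      refine Over.OverMorphism.ext ?_
      rw [← bcDual_fst, ← bcDual_fst, he]
    obtain ⟨R, hR, hRc⟩ := h.locallyInjective _ _ _ (invCl_pull (Y := PicF.XT X.hom (dn τ U)) _ hc)
      (invCl_pull (Y := PicF.XT X.hom (dn τ U)) _ hc') he'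
    refine ⟨R, hR, fun {V} v hv => ?_⟩
    have e := congrArg (fun d => PicF.pullCl (AgPol.bcXTIso τ X (AbDual.ovr U v)).hom
      (PicF.pullCl (PicF.XTmap X.hom (reassoc τ v)) d)) (hRc v hv)
    have key : ∀ d : PicF.Cl (PicF.XT (Red.bc τ X).hom U),
        PicF.pullCl (AgPol.bcXTIso τ X (AbDual.ovr U v)).hom (PicF.pullCl (PicF.XTmap X.hom (reassoc τ v))
          (PicF.pullCl (PicF.XTmap X.hom (AbDual.ovrHom (dn τ U) v)) (PicF.pullCl (AgPol.bcXTIso τ X U).inv d))) =
          PicF.pullCl (PicF.XTmap (Red.bc τ X).hom (AbDual.ovrHom U v)) d := fun d => by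
      rw [← PicLoc.pullCl_comp, ← PicLoc.pullCl_comp, ← PicLoc.pullCl_comp]
      congr 1
      rw [← cancel_mono (AgPol.bcXTIso τ X U).hom]
      simp only [Category.assoc, Iso.inv_hom_id, Category.comp_id]
      refine Limits.pullback.hom_ext ?_ ?_ <;> simp [AgPol.bcXTIso, PicF.XTmap]
    simpa only [key] using e

end baseChange

end Groth.Agent.PicSmooth
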