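import Groth.Agent.ThickPic.Lift
import Groth.Agent.FibVan.Stalk
import Groth.Agent.W7Cech.RpushSec
import Groth.Agent.W7Alg.Closed
import Groth.Agent.StructPush.Basic
import Groth.Agent.S12404
import Groth.Agent.PicSmooth.BC
import Groth.Agent.PicFam.Separated
import Groth.Agent.InfLift.SmoothLift

/-!
# Smoothness of the Picard scheme of a relative curve
-/

set_option autoImplicit false
set_option backward.isDefEq.respectTransparency false
set_option backward.isDefEq.respectTransparency.types false
set_option linter.style.haveILetI false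
set_option maxHeartbeats 1000000

universe u

open CategoryTheory CategoryTheory.Limits AlgebraicGeometry TopologicalSpace Opposite

noncomputable section

namespace Groth.Agent.PicSmooth

theorem subsingleton_hh_of_iso {X : Scheme.{u}} {M N : X.Modules} (e : M ≅ N) (p : ℕ)
    (h : Subsingleton (Coh.HH X M p)) : Subsingleton (Coh.HH X N p) := by
  let e₀ : Coh.toAb M ≅ Coh.toAb N := (SheafOfModules.toSheaf X.ringCatSheaf).mapIso e
  haveI : Subsingleton (CohTop.H (Coh.toAb M) p) := h
  let e' := ((Sheaf.functorH.{u, u} (Opens.grothendieckTopology X.toTopCat) p).mapIso e₀).addCommGroupIsoToAddEquiv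
  exact @Function.Surjective.subsingleton _ _ _ h e'.surjective

/-- Proper over an affine base with fibres of dimension `≤ d`: no cohomology above `d`. -/
theorem subsingleton_hh_of_affine_base {X : Scheme.{u}} {A : CommRingCat.{u}} (p : X ⟶ Spec A)
    [IsProper p] (d : ℕ) (hd : ∀ y, topologicalKrullDim ↥(p.fiber y) ≤ d) (M : X.Modules)
    (hM : Coh.IsQCoh M) (i : ℕ) (hi : d < i) : Subsingleton (Coh.HH X M i) := by
  haveI := RPushQC.hasInjectiveResolutions X
  haveI : Coh.IsQCoh M := hM
  let U : X.Opens := p ⁻¹ᵁ ⊤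
  obtain ⟨e₁⟩ := W7Cech.nonempty_rpush_sections p M hM i (isAffineOpen_top (Spec A))
  obtain ⟨ε⟩ := CohQC.toAb_rpush_iso p M i
  have hz : IsZero (Coh.toAb ((Coh.Rpush p i).obj M)) := (FibVan.isZero_rpushAb p d hd M i hi).of_iso ε
  have h1 : Subsingleton Γ((Coh.Rpush p i).obj M, ⊤) :=
    AddCommGrpCat.subsingleton_of_isZero (((sheafSections _ _).obj (op ⊤)).map_isZero hz)
  have h2 : Subsingleton (Coh.HH U.toScheme (M.restrict U.ι) i) := e₁.symm.toEquiv.subsingleton
  -- `U` is all of `X`
  have hU : U = ⊤ := rfl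
  let e : X ⟶ U.toScheme := X.topIso.inv
  have he : e ≫ U.ι = 𝟙 X := X.topIso.inv_hom_id
  haveI : IsIso e := inferInstanceAs (IsIso X.topIso.inv)
  haveI : M.IsQuasicoherent := hM
  refine FibVan.subsingleton_hh_push e M i (subsingleton_hh_of_iso ?_ i h2)
  exact (Scheme.Modules.restrictFunctor U.ι).mapIso
      (((Scheme.Modules.pushforwardComp e U.ι).app M ≪≫ (Scheme.Modules.pushforwardCongr he).app M ≪≫
        (Scheme.Modules.pushforwardId X).app M).symm) ≪≫
    (asIso (Scheme.Modules.restrictAdjunction U.ι).counit).app ((Scheme.Modules.pushforward e).obj M)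

/-- Invertible classes lift along a square-zero thickening of the base of a proper relative curve. -/
theorem exists_lift_invertible {A : Type u} [CommRing A] (J : Ideal A) (hJ : J ^ 2 = ⊥) {X X₀ : Scheme.{u}}
    (p : X ⟶ Spec (CommRingCat.of A)) [IsProper p] (hd : ∀ y, topologicalKrullDim ↥(p.fiber y) ≤ 1)
    (g : X₀ ⟶ X) (p₀ : X₀ ⟶ Spec (CommRingCat.of (A ⧸ J)))
    (sq : IsPullback g p₀ p (Spec.map (CommRingCat.ofHom (Ideal.Quotient.mk J))))
    (c : PicF.Cl X₀) (hc : PicF.IsInvertibleCl c) :
    ∃ d : PicF.Cl X, PicF.IsInvertibleCl d ∧ PicF.pullCl g d = c := by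
  haveI : IsClosedImmersion (Spec.map (CommRingCat.ofHom (Ideal.Quotient.mk J))) :=
    IsClosedImmersion.spec_of_surjective _ Ideal.Quotient.mk_surjective
  haveI : IsClosedImmersion g := MorphismProperty.of_isPullback sq.flip inferInstance
  letI : X.Over (Spec (CommRingCat.of A)) := ⟨p⟩
  have hsq : g.ker * g.ker = ⊥ := by
    refine Scheme.IdealSheafData.ext (funext fun U => ?_)
    rw [Scheme.IdealSheafData.ideal_mul, Scheme.IdealSheafData.ideal_bot]
    change g.ker.ideal U * g.ker.ideal U = ⊥
    rw [Scheme.Hom.ker_apply, W7Alg.ker_app_baseChange (Ideal.Quotient.mk J) Ideal.Quotient.mk_surjective sq U,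
      Ideal.mk_ker, ← Ideal.map_mul, ← pow_two, hJ, Ideal.map_bot]
  have h2 : Subsingleton (Coh.HH X (ClSub.idealMod g.ker) 2) :=
    subsingleton_hh_of_affine_base p 1 hd _ (QC.isQCoh_idealMod g.ker) 2 (by norm_num)
  let θ : X₀ ⟶ g.ker.subscheme := g.toImage
  have hθ : θ ≫ g.ker.subschemeι = g := g.toImage_imageι
  haveI : IsIso θ := inferInstanceAs (IsIso g.toImage)
  obtain ⟨d, hd', hpull⟩ := ThickPic.exists_lift hsq h2 (PicF.pullCl (inv θ) c)
    (PicLoc.isInvertibleCl_pullCl _ hc)
  refine ⟨d, hd', ?_⟩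
  rw [← hθ, PicLoc.pullCl_comp, hpull, ← PicLoc.pullCl_comp, IsIso.hom_inv_id, PicLoc.pullCl_id]

/-- The Picard scheme of a relative curve with a section is smooth. -/
theorem smooth_of_section {X S : Scheme.{u}} (f : X ⟶ S) [IsProper f] [Flat f] [LocallyOfFinitePresentation f]
    [GeometricallyReduced f] [GeometricallyConnected f]
    (hdim : ∀ s : S, topologicalKrullDim ↥(f.fiber s) ≤ 1) (σ : S ⟶ X) (hσ : σ ≫ f = 𝟙 S)
    (P : Over S) (φ : ∀ T : Over S, PicF.Cl (PicF.XT f T) → (T ⟶ P))
    (hP : AbDual.IsRelPicK Scheme.fppfPrecoverage f P φ) [LocallyOfFinitePresentation P.hom] :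
    Smooth P.hom := by
  have ha : ∀ (T : Over S) (U : T.left.Opens), IsIso ((PicF.XTproj f T).app U) := fun T U => by
    haveI : Surjective f := ⟨fun s => ⟨σ s, congr($hσ s)⟩⟩
    haveI : IsProper (PicF.XTproj f T) := MorphismProperty.pullback_snd _ _ ‹IsProper f›
    haveI : Flat (PicF.XTproj f T) := MorphismProperty.pullback_snd _ _ ‹Flat f›
    haveI : LocallyOfFinitePresentation (PicF.XTproj f T) :=
      MorphismProperty.pullback_snd _ _ ‹LocallyOfFinitePresentation f›
    haveI : Surjective (PicF.XTproj f T) := MorphismProperty.pullback_snd _ _ ‹Surjective f›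
    haveI : GeometricallyConnected (PicF.XTproj f T) := MorphismProperty.pullback_snd _ _ ‹GeometricallyConnected f›
    haveI : GeometricallyReduced (PicF.XTproj f T) := MorphismProperty.pullback_snd _ _ ‹GeometricallyReduced f›
    exact StructPush.isIso_app _ U
  refine InfLift.smooth_of_isFormallySmoothHom P.hom fun A _ J hJ a b comm => ?_
  let ι := Spec.map (CommRingCat.ofHom (Ideal.Quotient.mk J))
  let T : Over S := Over.mk b
  let T₀ : Over S := Over.mk (ι ≫ b)
  let i : T₀ ⟶ T := Over.homMk ι
  let g₀ : T₀ ⟶ P := Over.homMk a comm.symm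
  obtain ⟨c₀, hc₀⟩ := (S12404.result f σ hσ ha P φ hP T₀).2 g₀
  haveI : IsProper (PicF.XTproj f T) := MorphismProperty.pullback_snd _ _ ‹IsProper f›
  have hfib : ∀ y, topologicalKrullDim ↥((PicF.XTproj f T).fiber y) ≤ 1 := fun y => by
    rw [DimField.dim_fiber_eq_of_isPullback (show IsPullback (pullback.fst f T.hom) (PicF.XTproj f T) f T.hom from
      IsPullback.of_hasPullback f T.hom) y]
    exact hdim _
  obtain ⟨d, hd, hpull⟩ := exists_lift_invertible J hJ (PicF.XTproj f T) hfib (PicF.XTmap f i)
    (PicF.XTproj f T₀) (PicFam.isPullback_XTmap f i) c₀.1 c₀.2.1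
  refine ⟨(φ T d).left, ?_, Over.w (φ T d)⟩
  have e := hP.natural T T₀ i d hd
  rw [hpull] at e
  exact (congrArg CommaMorphism.left (e.symm.trans hc₀)).trans rfl

/-- The Picard scheme of a relative curve is smooth. -/
theorem smooth_pic {C S : Scheme.{u}} (f : C ⟶ S)
    [IsProper f] [Flat f] [LocallyOfFinitePresentation f] [GeometricallyReduced f] [GeometricallyConnected f]
    (hdim : ∀ s : S, topologicalKrullDim ↥(f.fiber s) = 1)
    (P : Over S) (φ : ∀ T : Over S, PicF.Cl (PicF.XT f T) → (T ⟶ P))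
    (hP : AbDual.IsRelPicK Scheme.fppfPrecoverage f P φ) [LocallyOfFinitePresentation P.hom] :
    Smooth P.hom := by
  haveI : Surjective f := ⟨fun s => by
    by_contra hs
    haveI : IsEmpty ↥(f.fiber s) := ⟨fun z => hs ⟨f.fiberι s z, by
      have := (f.range_fiberι s).le ⟨z, rfl⟩
      simpa using this⟩⟩
    have h := hdim s
    haveI : IsEmpty (IrreducibleCloseds ↥(f.fiber s)) := ⟨fun Z => isEmptyElim Z.isIrreducible.nonempty.some⟩
    rw [topologicalKrullDim, Order.krullDim_eq_bot] at h
    exact absurd h.symm (by simp)⟩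
  haveI : QuasiCompact f := inferInstance
  let X' := Red.bc f (Over.mk f)
  let P' := Red.bc f P
  haveI : IsProper X'.hom := inferInstanceAs (IsProper (pullback.snd f f))
  haveI : Flat X'.hom := inferInstanceAs (Flat (pullback.snd f f))
  haveI : LocallyOfFinitePresentation X'.hom := inferInstanceAs (LocallyOfFinitePresentation (pullback.snd f f))
  haveI : GeometricallyReduced X'.hom := MorphismProperty.pullback_snd (P := @GeometricallyReduced) f f inferInstance
  haveI : GeometricallyConnected X'.hom := MorphismProperty.pullback_snd (P := @GeometricallyConnected) f f inferInstance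
  haveI : LocallyOfFinitePresentation P'.hom := inferInstanceAs (LocallyOfFinitePresentation (pullback.snd P.hom f))
  have hdim' : ∀ s : C, topologicalKrullDim ↥(X'.hom.fiber s) ≤ 1 := fun s => by
    change topologicalKrullDim ↥((pullback.snd f f).fiber s) ≤ 1
    rw [DimField.dim_fiber_eq_of_isPullback (IsPullback.of_hasPullback f f) s]
    exact (hdim _).le
  let φ₀ : AgPol.DualMap (Over.mk f) P := φ
  have hP' := isRelPicK_bcDual f (X := Over.mk f) (φ := φ₀) hP
  have hs : Smooth P'.hom := smooth_of_section X'.hom hdim'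
    (pullback.lift (𝟙 C) (𝟙 C) rfl) (pullback.lift_snd _ _ _) P' _ hP'
  exact MorphismProperty.of_pullback_snd_of_descendsAlong (P := @Smooth)
    (Q := @Surjective ⊓ @Flat ⊓ @QuasiCompact) (g := f) ⟨⟨inferInstance, inferInstance⟩, inferInstance⟩ hs

end Groth.Agent.PicSmooth
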