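import Groth.Agent.PicFam.Separated
import Groth.Agent.S1026
import Groth.Agent.W7Hull.InvNear
import Groth.Agent.AssTensor.GeomReduced
import Groth.Agent.CohFinite.Linear
import Groth.Agent.PicSmooth.Curve
import Groth.Agent.S4508
import Groth.Prelude.Def_FGA

/-!
The degree function on the Picard scheme of a relative curve.
-/

set_option autoImplicit false
set_option backward.isDefEq.respectTransparency false
set_option backward.isDefEq.respectTransparency.types false
set_option linter.style.haveILetI false
set_option maxHeartbeats 1000000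

universe u

open CategoryTheory CategoryTheory.Limits AlgebraicGeometry TopologicalSpace Opposite

noncomputable section

namespace Groth.Agent.PicSmooth

/-- Betti numbers along a cartesian square. -/
theorem betti_of_isPullback {X Y X' Y' : Scheme.{u}} {f : X ⟶ Y} {g : Y' ⟶ Y} {g' : X' ⟶ X} {f' : X' ⟶ Y'}
    (h : IsPullback g' f' f g) [IsProper f] (F : X.Modules) (hF : Coh.IsQCoh F) (y' : Y') (i : ℕ) :
    PerfAux.betti f' ((Scheme.Modules.pullback g').obj F) y' i = PerfAux.betti f F (g.base y') i := by
  haveI : IsProper f' := MorphismProperty.of_isPullback h inferInstance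
  let k := Y.residueField (g y')
  let k' := Y'.residueField y'
  letI : Algebra k k' := (g.residueFieldMap y').hom.toAlgebra
  letI : (f.fiber (g y')).Over (Spec (CommRingCat.of ↥k)) := ⟨f.fiberToSpecResidueField (g y')⟩
  letI : (f'.fiber y').Over (Spec (CommRingCat.of ↥k')) :=
    ⟨f'.fiberToSpecResidueField y'⟩
  haveI : IsProper (f.fiberToSpecResidueField (g y')) := inferInstanceAs (IsProper (pullback.snd f _))
  haveI : CompactSpace ↥(f.fiber (g y')) :=
    QuasiCompact.compactSpace_of_compactSpace (f.fiberToSpecResidueField (g y'))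
  haveI : (f.fiber (g y')).IsSeparated := by
    constructor
    rw [← terminal.comp_from (f.fiberToSpecResidueField (g y'))]
    infer_instance
  obtain ⟨ι, hι, W, hW, hcov⟩ := Groth.Agent.W7Cech.exists_cover (f.fiber (g y'))
  haveI := hι
  have sq := isPullback_fiberToSpecResidueField_of_isPullback (h) y'
  let γ : f'.fiber y' ⟶ f.fiber (g y') :=
    pullback.map _ _ _ _ g' (Spec.map (g.residueFieldMap y')) g
      h.w.symm (by simp)
  have hγ : γ ≫ f.fiberι (g y') = f'.fiberι y' ≫ g' := pullback.lift_fst _ _ _
  obtain ⟨e⟩ := Groth.Agent.W7Cech.nonempty_hh_flat_bc k k' W hW hcov γ sq (CohIII.fiberMod f F (g y'))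
    (Groth.Agent.QC.isQCoh_pullback _ hF) i
  let j : (Scheme.Modules.pullback γ).obj (CohIII.fiberMod f F (g y')) ≅
      (Scheme.Modules.pullback (f'.fiberι y')).obj
        ((Scheme.Modules.pullback g').obj F) :=
    (Scheme.Modules.pullbackComp γ (f.fiberι (g y'))).app F ≪≫ (Scheme.Modules.pullbackCongr hγ).app F ≪≫
      ((Scheme.Modules.pullbackComp (f'.fiberι y') g').app F).symm
  refine (((Groth.Agent.CohFinite.hhEquiv k' j i).symm.trans e).finrank_eq).trans ?_
  rw [Module.finrank_baseChange]
  rfl



/-- Isomorphic modules have the same Betti numbers. -/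
theorem betti_iso {X S : Scheme.{u}} (f : X ⟶ S) {F G : X.Modules} (e : F ≅ G) (s : S) (i : ℕ) :
    PerfAux.betti f F s i = PerfAux.betti f G s i := by
  letI : (f.fiber s).Over (Spec (CommRingCat.of ↥(S.residueField s))) := ⟨f.fiberToSpecResidueField s⟩
  exact LinearEquiv.finrank_eq (Groth.Agent.CohFinite.hhEquiv _ ((Scheme.Modules.pullback (f.fiberι s)).mapIso e) i)

variable {C S : Scheme.{u}} (f : C ⟶ S) [IsProper f] [Flat f] [LocallyOfFinitePresentation f]

/-- the degree on the fibres -/
def delta (T : Over S) (L : (PicF.XT f T).Modules) (t : T.left) : ℤ :=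
  PerfAux.eulerChar (PicF.XTproj f T) L t -
    PerfAux.eulerChar (PicF.XTproj f T) (Coh.structureModule _) t

theorem delta_iso {T : Over S} {L M : (PicF.XT f T).Modules} (e : L ≅ M) (t : T.left) :
    delta f T L t = delta f T M t := by
  unfold delta PerfAux.eulerChar
  simp only [betti_iso (PicF.XTproj f T) e t]

theorem delta_pull {T T' : Over S} (g : T' ⟶ T) {L : (PicF.XT f T).Modules} (hL : PicF.IsInvertible L)
    (t' : T'.left) :
    delta f T' ((Scheme.Modules.pullback (PicF.XTmap f g)).obj L) t' = delta f T L (g.left t') := by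
  let p := PicF.XTproj f T
  have key : ∀ (M : (PicF.XT f T).Modules), Coh.IsQCoh M → ∀ i,
      PerfAux.betti (PicF.XTproj f T') ((Scheme.Modules.pullback (PicF.XTmap f g)).obj M) t' i =
        PerfAux.betti p M (g.left t') i := by
    intro M hM i
    haveI : IsProper p := MorphismProperty.pullback_snd _ _ ‹IsProper f›
    exact betti_of_isPullback (show IsPullback (PicF.XTmap f g) (PicF.XTproj f T') p g.left from
      PicFam.isPullback_XTmap f g) M hM t' i
  unfold delta PerfAux.eulerChar
  simp only [key L (TMul.isQCoh_of_isInvertible hL)]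
  congr 1
  refine finsum_congr fun i => ?_
  rw [← key _ (TMul.isQCoh_of_isInvertible (PicLoc.isInvertible_structureModule _)) i,
    betti_iso (PicF.XTproj f T') (PicLoc.pullbackStructureIso (PicF.XTmap f g)) t' i]

theorem isLocallyConstant_delta (T : Over S) {L : (PicF.XT f T).Modules} (hL : PicF.IsInvertible L) :
    IsLocallyConstant (delta f T L) := by
  haveI : IsProper (PicF.XTproj f T) := MorphismProperty.pullback_snd _ _ ‹IsProper f›
  haveI : Flat (PicF.XTproj f T) := MorphismProperty.pullback_snd _ _ ‹Flat f›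
  haveI : LocallyOfFinitePresentation (PicF.XTproj f T) :=
    MorphismProperty.pullback_snd _ _ ‹LocallyOfFinitePresentation f›
  have h : ∀ M : (PicF.XT f T).Modules, PicF.IsInvertible M →
      IsLocallyConstant (fun s => PerfAux.eulerChar (PicF.XTproj f T) M s) := fun M hM =>
    S1026.result (PicF.XTproj f T) M (W7Hull.isFP_of_isInvertible hM)
      (W7Hull.isFlatOver_of_isInvertible _ hM)
  exact (h L hL).sub (h _ (PicLoc.isInvertible_structureModule _))

theorem delta_eq (hdim : ∀ s : S, topologicalKrullDim ↥(f.fiber s) = 1) (T : Over S)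
    (L : (PicF.XT f T).Modules) (hL : PicF.IsInvertible L) (t : T.left) :
    delta f T L t = FGA.eulerCharLE (T.left.residueField t) (FGA.fibreAt f T t).left (FGA.restrFibre f T t L) 1 -
      FGA.eulerCharLE (T.left.residueField t) (FGA.fibreAt f T t).left
        (Coh.structureModule (FGA.fibreAt f T t).left) 1 := by
  let p := PicF.XTproj f T
  haveI : IsProper p := MorphismProperty.pullback_snd _ _ ‹IsProper f›
  letI : (p.fiber t).Over (Spec (CommRingCat.of ↥(T.left.residueField t))) := ⟨p.fiberToSpecResidueField t⟩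
  haveI : IsProper (p.fiber t ↘ Spec (CommRingCat.of ↥(T.left.residueField t))) :=
    MorphismProperty.pullback_snd _ _ inferInstance
  have hd : topologicalKrullDim ↥(p.fiber t) ≤ 1 := by
    rw [DimField.dim_fiber_eq_of_isPullback (show IsPullback (pullback.fst f T.hom) p f T.hom from
      IsPullback.of_hasPullback f T.hom) t]
    exact (hdim _).le
  have hfib : ∀ y, topologicalKrullDim
      ↥((p.fiber t ↘ Spec (CommRingCat.of ↥(T.left.residueField t))).fiber y) ≤ ((1 : ℕ) : WithBot ℕ∞) := by
    intro y
    refine le_trans (le_of_eq ?_) hd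
    haveI : IsIso ((Spec (CommRingCat.of ↥(T.left.residueField t))).fromSpecResidueField y) :=
      AssTensor.isIso_fromSpecResidueField _ y
    haveI : IsIso ((p.fiber t ↘ Spec (CommRingCat.of ↥(T.left.residueField t))).fiberι y) :=
      inferInstanceAs (IsIso (pullback.fst _ ((Spec (CommRingCat.of ↥(T.left.residueField t))).fromSpecResidueField y)))
    exact (Homeomorph.isHomeomorph (Scheme.homeoOfIso (asIso
      ((p.fiber t ↘ Spec (CommRingCat.of ↥(T.left.residueField t))).fiberι y)))).topologicalKrullDim_eq
  have hz : ∀ (M : (PicF.XT f T).Modules), Coh.IsQCoh M → ∀ i, i ∉ Finset.range 2 →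
      PerfAux.betti p M t i = 0 := by
    intro M hM i hi
    haveI : Subsingleton (Coh.HH (p.fiber t) ((Scheme.Modules.pullback (p.fiberι t)).obj M) i) :=
      subsingleton_hh_of_affine_base (p.fiber t ↘ Spec (CommRingCat.of ↥(T.left.residueField t))) 1 hfib _
        (QC.isQCoh_pullback _ hM) i (by simpa using hi)
    exact Module.finrank_zero_of_subsingleton
  have hsum : ∀ (M : (PicF.XT f T).Modules), Coh.IsQCoh M →
      PerfAux.eulerChar p M t = FGA.eulerCharLE (T.left.residueField t) (p.fiber t)
        ((Scheme.Modules.pullback (p.fiberι t)).obj M) 1 := by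
    intro M hM
    unfold PerfAux.eulerChar
    rw [finsum_eq_sum_of_support_subset _ (s := Finset.range 2) (fun i hi => by
      by_contra h
      exact hi (by simp [hz M hM i (by simpa using h)]))]
    rfl
  unfold delta
  rw [hsum L (TMul.isQCoh_of_isInvertible hL), hsum _ (TMul.isQCoh_of_isInvertible (PicLoc.isInvertible_structureModule _))]
  refine congrArg (FGA.eulerCharLE (T.left.residueField t) (p.fiber t)
    ((Scheme.Modules.pullback (p.fiberι t)).obj L) 1 - ·) ?_
  unfold FGA.eulerCharLE
  refine Finset.sum_congr rfl fun i _ => ?_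
  congr 2
  exact LinearEquiv.finrank_eq (Groth.Agent.CohFinite.hhEquiv _ (PicLoc.pullbackStructureIso (p.fiberι t)) i)

/-- The degree function on the representing scheme. -/
theorem exists_degree (hdim : ∀ s : S, topologicalKrullDim ↥(f.fiber s) = 1)
    (P : Over S) (φ : ∀ T : Over S, PicF.Cl (PicF.XT f T) → (T ⟶ P))
    (hP : AbDual.IsRelPicK Scheme.fppfPrecoverage f P φ) :
    ∃ d : ↥P.left → ℤ, IsLocallyConstant d ∧
      ∀ (T : Over S) (L : (PicF.XT f T).Modules), PicF.IsInvertible L → ∀ t : T.left,
        d ((φ T (PicF.cl L)).left.base t) =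
          FGA.eulerCharLE (T.left.residueField t) (FGA.fibreAt f T t).left (FGA.restrFibre f T t L) 1 -
            FGA.eulerCharLE (T.left.residueField t) (FGA.fibreAt f T t).left
              (Coh.structureModule (FGA.fibreAt f T t).left) 1 := by
  obtain ⟨R, hR, hRc⟩ := hP.locallySurjective P (𝟙 P)
  obtain ⟨ι, U, u, rfl⟩ := R.exists_eq_ofArrows
  obtain ⟨hj, hprop⟩ := (Scheme.ofArrows_mem_precoverage_iff _).1 hR
  choose k x hx using hj
  choose c hc hφ using fun i => hRc (u i) (Presieve.ofArrows.mk i)
  choose L hLc hL using hc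
  let d : ↥P.left → ℤ := fun q => delta f (AbDual.ovr P (u (k q))) (L (k q)) (x q)
  -- equal points have equal degrees
  have key : ∀ (T T' : Over S) (M : (PicF.XT f T).Modules) (M' : (PicF.XT f T').Modules),
      PicF.IsInvertible M → PicF.IsInvertible M' → ∀ (t : T.left) (t' : T'.left),
      (φ T (PicF.cl M)).left t = (φ T' (PicF.cl M')).left t' → delta f T M t = delta f T' M' t' := by
    intro T T' M M' hM hM' t t' h
    let a := (φ T (PicF.cl M)).left
    let b := (φ T' (PicF.cl M')).left
    obtain ⟨w, hw₁, hw₂⟩ := Scheme.Pullback.exists_preimage_pullback (f := a) (g := b) t t' h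
    let W : Over S := Over.mk (pullback.fst a b ≫ T.hom)
    let g : W ⟶ T := Over.homMk (pullback.fst a b)
    let g' : W ⟶ T' := Over.homMk (pullback.snd a b) (by
      change pullback.snd a b ≫ T'.hom = pullback.fst a b ≫ T.hom
      rw [← Over.w (φ T' (PicF.cl M')), ← Over.w (φ T (PicF.cl M))]
      exact (pullback.condition_assoc P.hom).symm)
    have hg : g ≫ φ T (PicF.cl M) = g' ≫ φ T' (PicF.cl M') := Over.OverMorphism.ext pullback.condition
    have e1 := hP.natural T W g (PicF.cl M) ⟨M, rfl, hM⟩
    have e2 := hP.natural T' W g' (PicF.cl M') ⟨M', rfl, hM'⟩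
    obtain ⟨R', hR', hRc'⟩ := hP.locallyInjective W _ _ ⟨_, rfl, PicLoc.isInvertible_pullback _ hM⟩
      ⟨_, rfl, PicLoc.isInvertible_pullback _ hM'⟩ (e1.trans (hg.trans e2.symm))
    obtain ⟨ι', V, v, rfl⟩ := R'.exists_eq_ofArrows
    obtain ⟨i, y, hy⟩ := ((Scheme.ofArrows_mem_precoverage_iff _).1 hR').1 w
    obtain ⟨e⟩ := PicFam.nonempty_iso_of_cl_eq (hRc' (v i) (Presieve.ofArrows.mk i))
    have h1 : delta f W ((Scheme.Modules.pullback (PicF.XTmap f g)).obj M) w = delta f T M t := by
      rw [delta_pull f g hM w]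
      exact congrArg (delta f T M) hw₁
    have h2 : delta f W ((Scheme.Modules.pullback (PicF.XTmap f g')).obj M') w = delta f T' M' t' := by
      rw [delta_pull f g' hM' w]
      exact congrArg (delta f T' M') hw₂
    have h3 := delta_iso f e y
    rw [delta_pull f (AbDual.ovrHom W (v i)) (PicLoc.isInvertible_pullback _ hM) y,
      delta_pull f (AbDual.ovrHom W (v i)) (PicLoc.isInvertible_pullback _ hM') y] at h3
    have hy' : (AbDual.ovrHom W (v i)).left y = w := hy
    rw [hy'] at h3
    rw [← h1, ← h2]
    exact h3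
  have hu : ∀ i (z : U i), (φ (AbDual.ovr P (u i)) (PicF.cl (L i))).left z = u i z := fun i z => by
    rw [hLc i, hφ i, Category.comp_id]
    rfl
  have hd : ∀ i (z : U i), d (u i z) = delta f (AbDual.ovr P (u i)) (L i) z := fun i z => by
    refine key _ _ _ _ (hL _) (hL i) _ _ ?_
    rw [hu, hu]
    exact hx (u i z)
  refine ⟨d, IsLocallyConstant.iff_isOpen_fiber.2 fun a => ?_, fun T M hM t => ?_⟩
  · have he : d ⁻¹' {a} = ⋃ i, u i '' (delta f (AbDual.ovr P (u i)) (L i) ⁻¹' {a}) := by
      ext q
      simp only [Set.mem_preimage, Set.mem_singleton_iff, Set.mem_iUnion, Set.mem_image]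
      constructor
      · intro hq
        refine ⟨k q, x q, ?_, hx q⟩
        exact hq
      · rintro ⟨i, z, hz, rfl⟩
        rw [hd]
        exact hz
    rw [he]
    refine isOpen_iUnion fun i => ?_
    haveI : Flat (u i) := (hprop i).1
    haveI : LocallyOfFinitePresentation (u i) := (hprop i).2
    exact (u i).isOpenMap _ (isLocallyConstant_delta f _ (hL i) _)
  · rw [← delta_eq f hdim T M hM t]
    refine key _ _ _ _ (hL _) hM _ _ ?_
    rw [hu]
    exact hx _

end Groth.Agent.PicSmooth
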