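import Groth.Agent.PicSmooth.Degree

/-!
Modules algebraically equivalent to zero have degree zero.
-/

set_option autoImplicit false
set_option backward.isDefEq.respectTransparency false
set_option backward.isDefEq.respectTransparency.types false
set_option linter.style.haveILetI false
set_option maxHeartbeats 1000000

universe u

open CategoryTheory CategoryTheory.Limits AlgebraicGeometry TopologicalSpace Opposite

noncomputable section

namespace Groth.Agent.PicSmooth

/-- Euler characteristic relative to that of the structure module. -/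
def chiDiff {X Y : Scheme.{u}} (p : X ⟶ Y) (M : X.Modules) (y : Y) : ℤ :=
  PerfAux.eulerChar p M y - PerfAux.eulerChar p (Coh.structureModule X) y

theorem chiDiff_iso {X Y : Scheme.{u}} (p : X ⟶ Y) {M N : X.Modules} (e : M ≅ N) (y : Y) :
    chiDiff p M y = chiDiff p N y := by
  unfold chiDiff PerfAux.eulerChar
  simp only [betti_iso p e y]

theorem chiDiff_pull {X Y X' Y' : Scheme.{u}} {f : X ⟶ Y} {g : Y' ⟶ Y} {g' : X' ⟶ X} {f' : X' ⟶ Y'}
    (h : IsPullback g' f' f g) [IsProper f] {M : X.Modules} (hM : PicF.IsInvertible M) (y' : Y') :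
    chiDiff f' ((Scheme.Modules.pullback g').obj M) y' = chiDiff f M (g y') := by
  have h1 : ∀ N : X.Modules, Coh.IsQCoh N →
      PerfAux.eulerChar f' ((Scheme.Modules.pullback g').obj N) y' = PerfAux.eulerChar f N (g y') :=
    fun N hN => finsum_congr fun i => by rw [betti_of_isPullback h N hN y' i]
  have h2 : PerfAux.eulerChar f' (Coh.structureModule X') y' =
      PerfAux.eulerChar f' ((Scheme.Modules.pullback g').obj (Coh.structureModule X)) y' :=
    finsum_congr fun i => by rw [betti_iso f' (PicLoc.pullbackStructureIso g').symm y' i]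
  unfold chiDiff
  rw [h2, h1 M (TMul.isQCoh_of_isInvertible hM),
    h1 _ (TMul.isQCoh_of_isInvertible (PicLoc.isInvertible_structureModule X))]

theorem chiDiff_eq_zero_of_isAlgEquivZero {Ω : Type u} [Field Ω] {X : Scheme.{u}}
    [X.Over (Spec (CommRingCat.of Ω))] [IsProper (X ↘ Spec (CommRingCat.of Ω))] {L : X.Modules}
    (h : Pic13.IsAlgEquivZero Ω X L) (y : Spec (CommRingCat.of Ω)) :
    chiDiff (X ↘ Spec (CommRingCat.of Ω)) L y = 0 := by
  obtain ⟨T, q, hT, -, -, M, hM, t, t₀, ht, ht₀, ⟨e⟩, ⟨e₀⟩⟩ := h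
  let g := X ↘ Spec (CommRingCat.of Ω)
  haveI : Flat g := inferInstance
  haveI : LocallyOfFinitePresentation g := inferInstance
  haveI : PreconnectedSpace ↥(Over.mk q).left := inferInstanceAs (PreconnectedSpace T)
  have hconst := (isLocallyConstant_delta g (Over.mk q) (L := M) hM).apply_eq_of_preconnectedSpace (t y) (t₀ y)
  have key : ∀ (s : Spec (CommRingCat.of Ω) ⟶ T) (hs : s ≫ q = 𝟙 _) (N : X.Modules),
      (Pic13.fibreMod Ω X q s hs M ≅ N) → chiDiff g N y = delta g (Over.mk q) M (s y) := by
    intro s hs N e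
    haveI : IsProper (PicF.XTproj g (Over.mk q)) := MorphismProperty.pullback_snd _ _ ‹_›
    have sq : IsPullback (Pic13.sliceAt Ω X q s hs) g (PicF.XTproj g (Over.mk q)) s := by
      refine IsPullback.of_right (h₁₂ := pullback.fst g q) (h₂₂ := q) (v₁₃ := g) ?_
        (pullback.lift_snd _ _ _) (IsPullback.of_hasPullback g q)
      rw [show Pic13.sliceAt Ω X q s hs ≫ pullback.fst g q = 𝟙 X from pullback.lift_fst _ _ _, hs]
      exact IsPullback.of_horiz_isIso ⟨by simp⟩
    rw [← chiDiff_iso g e y]
    exact chiDiff_pull sq hM y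
  change chiDiff g L y = 0
  rw [key t ht L e, hconst, ← key t₀ ht₀ _ e₀, chiDiff, sub_self]

variable {C S : Scheme.{u}} (f : C ⟶ S) [IsProper f] [Flat f] [LocallyOfFinitePresentation f]

theorem euler_eq_of_isAlgTrivialAt (hdim : ∀ s : S, topologicalKrullDim ↥(f.fiber s) = 1)
    (T : Over S) (L : (PicF.XT f T).Modules) (hL : PicF.IsInvertible L) (t : T.left)
    (h0 : AbDual.IsAlgTrivialAt (PicF.XTproj f T) L t) :
    FGA.eulerCharLE (T.left.residueField t) (FGA.fibreAt f T t).left (FGA.restrFibre f T t L) 1 =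
      FGA.eulerCharLE (T.left.residueField t) (FGA.fibreAt f T t).left
        (Coh.structureModule (FGA.fibreAt f T t).left) 1 := by
  rw [← sub_eq_zero, ← delta_eq f hdim T L hL t]
  let p := PicF.XTproj f T
  haveI : IsProper p := MorphismProperty.pullback_snd _ _ ‹IsProper f›
  let Ω := AlgebraicClosure (T.left.residueField t)
  let σ : Spec (CommRingCat.of Ω) ⟶ T.left :=
    Spec.map (CommRingCat.ofHom (algebraMap (T.left.residueField t) Ω)) ≫ T.left.fromSpecResidueField t
  have hσ : ∀ z, σ z = t := fun z => by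
    rw [show σ z = T.left.fromSpecResidueField t (Spec.map (CommRingCat.ofHom (algebraMap (T.left.residueField t) Ω)) z)
      from rfl]
    exact Scheme.fromSpecResidueField_apply _ _
  let y : Spec (CommRingCat.of Ω) := IsLocalRing.closedPoint Ω
  have hrange : Set.range σ.base = {t} :=
    Set.eq_singleton_iff_unique_mem.2 ⟨⟨y, hσ y⟩, by rintro _ ⟨z, rfl⟩; exact hσ z⟩
  letI : (pullback p σ).Over (Spec (CommRingCat.of Ω)) := ⟨pullback.snd p σ⟩
  haveI : IsProper (pullback p σ ↘ Spec (CommRingCat.of Ω)) := MorphismProperty.pullback_snd _ _ ‹_›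
  have h2 := chiDiff_pull (IsPullback.of_hasPullback p σ) hL y
  rw [hσ y] at h2
  change chiDiff p L t = 0
  rw [← h2]
  exact chiDiff_eq_zero_of_isAlgEquivZero (h0 Ω σ hrange) y

end Groth.Agent.PicSmooth
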